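import Groth.Agent.FlatMor68.KoszulCalc
import Groth.Agent.FlatMor67.KoszulAppend
import Groth.Agent.FlatMor67.LCIDescent
import Mathlib.AlgebraicGeometry.Morphisms.Flat
import Mathlib.Algebra.Category.Ring.Constructions

/-!
# Koszul-regular immersions: base change, descent and composition
-/

set_option autoImplicit false
set_option backward.isDefEq.respectTransparency.types false
set_option linter.style.haveILetI false

universe u

open CategoryTheory CategoryTheory.Limits AlgebraicGeometry TopologicalSpace TensorProduct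

namespace Groth.Agent.RegImmB94

open FlatMor68.LCICalc FlatMor68.KoszulSyntomic FlatMor68.KoszulCalc

section Charts

variable {X Y X' Y' : Scheme.{u}} {i : Y ⟶ X} {g : X' ⟶ X} {i' : Y' ⟶ X'} {g' : Y' ⟶ Y}

/-- The algebras of an affine chart of a fibre product. -/
theorem chart (hc : IsPullback g' i' i g) {A : X.Opens} {A' : X'.Opens} {B : Y.Opens}
    (hA : IsAffineOpen A) (hA' : IsAffineOpen A') (hB : IsAffineOpen B)
    (eA : A' ≤ g ⁻¹ᵁ A) (eB : B ≤ i ⁻¹ᵁ A) {W : Y'.Opens} (hW : W = g' ⁻¹ᵁ B ⊓ i' ⁻¹ᵁ A') :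
    IsAffineOpen W ∧
      letI := (g.appLE A A' eA).hom.toAlgebra
      letI := (i.appLE A B eB).hom.toAlgebra
      letI := (i'.appLE A' W (hW.trans_le inf_le_right)).hom.toAlgebra
      Nonempty ((Γ(X', A') ⊗[Γ(X, A)] Γ(Y, B)) ≃ₐ[Γ(X', A')] Γ(Y', W)) := by
  subst hW
  refine ⟨?_, ?_⟩
  · have : IsAffine _ := hA
    have : IsAffine _ := hA'
    have : IsAffine _ := hB
    exact .of_isIso (Scheme.Hom.isPullback_resLE hc eA eB rfl).isoPullback.hom
  · let W := g' ⁻¹ᵁ B ⊓ i' ⁻¹ᵁ A'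
    letI := (g.appLE A A' eA).hom.toAlgebra
    letI := (i.appLE A B eB).hom.toAlgebra
    letI : Algebra Γ(X', A') Γ(Y', W) := (i'.appLE A' W inf_le_right).hom.toAlgebra
    letI : Algebra Γ(Y, B) Γ(Y', W) := (g'.appLE B W inf_le_left).hom.toAlgebra
    letI : Algebra Γ(X, A) Γ(Y', W) :=
      ((g' ≫ i).appLE A W (fun _ hy => eB hy.1)).hom.toAlgebra
    haveI : IsScalarTower Γ(X, A) Γ(Y, B) Γ(Y', W) := IsScalarTower.of_algebraMap_eq' <| by
      rw [RingHom.algebraMap_toAlgebra, RingHom.algebraMap_toAlgebra, RingHom.algebraMap_toAlgebra,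
        ← CommRingCat.hom_comp, Scheme.Hom.appLE_comp_appLE]
    haveI : IsScalarTower Γ(X, A) Γ(X', A') Γ(Y', W) := IsScalarTower.of_algebraMap_eq' <| by
      rw [RingHom.algebraMap_toAlgebra, RingHom.algebraMap_toAlgebra, RingHom.algebraMap_toAlgebra,
        ← CommRingCat.hom_comp, Scheme.Hom.appLE_comp_appLE]
      simp only [hc.w]
    haveI : Algebra.IsPushout Γ(X, A) Γ(X', A') Γ(Y, B) Γ(Y', W) :=
      CommRingCat.isPushout_iff_isPushout.mp ((isIso_pushoutSection_iff hc eA eB rfl).mp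
        (isIso_pushoutSection_of_isAffineOpen hc eA eB rfl hA hA' hB)).flip
    exact ⟨Algebra.IsPushout.equiv Γ(X, A) Γ(X', A') Γ(Y, B) Γ(Y', W)⟩

/-- Flat base change of lci morphisms. -/
theorem lciProp_flat_baseChange (hc : IsPullback g' i' i g) [Flat g] (h : lciProp i) : lciProp i' := by
  rw [HasRingHomProperty.iff_exists_appLE (P := lciProp.{u}) lciHom_source]
  intro y
  obtain ⟨_, ⟨A, hA, rfl⟩, hyA, -⟩ :=
    X.isBasis_affineOpens.exists_subset_of_mem_open (Set.mem_univ (i (g' y))) isOpen_univ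
  obtain ⟨_, ⟨B, hB, rfl⟩, hyB, eB⟩ :=
    Y.isBasis_affineOpens.exists_subset_of_mem_open (show g' y ∈ i ⁻¹ᵁ A from hyA) (i ⁻¹ᵁ A).2
  have hgy : g (i' y) ∈ A := by
    rwa [show g (i' y) = i (g' y) from congr(($(hc.w.symm)) y)]
  obtain ⟨_, ⟨A', hA', rfl⟩, hyA', eA⟩ :=
    X'.isBasis_affineOpens.exists_subset_of_mem_open (show i' y ∈ g ⁻¹ᵁ A from hgy) (g ⁻¹ᵁ A).2
  have eA : A' ≤ g ⁻¹ᵁ A := eA
  have eB : B ≤ i ⁻¹ᵁ A := eB
  obtain ⟨hW, ⟨e⟩⟩ := chart hc hA hA' hB eA eB rfl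
  refine ⟨⟨A', hA'⟩, ⟨_, hW⟩, ⟨hyB, hyA'⟩, inf_le_right, ?_⟩
  letI := (g.appLE A A' eA).hom.toAlgebra
  letI := (i.appLE A B eB).hom.toAlgebra
  haveI : Module.Flat Γ(X, A) Γ(X', A') := g.flat_appLE hA hA' eA
  letI := (i'.appLE A' (g' ⁻¹ᵁ B ⊓ i' ⁻¹ᵁ A') inf_le_right).hom.toAlgebra
  exact FlatMor67.isLCI_of_algEquiv e
    (isLCI_baseChange Γ(X, A) Γ(X', A') Γ(Y, B) (lci_appLE h hB hA eB))

/-- Faithfully flat descent of lci morphisms. -/
theorem lciProp_descend (hc : IsPullback g' i' i g) [Flat g] [Surjective g] [QuasiCompact g]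
    (h : lciProp i') : lciProp i := by
  classical
  rw [HasRingHomProperty.iff_exists_appLE (P := lciProp.{u}) lciHom_source]
  intro y
  obtain ⟨_, ⟨A, hA, rfl⟩, hyA, -⟩ :=
    X.isBasis_affineOpens.exists_subset_of_mem_open (Set.mem_univ (i y)) isOpen_univ
  obtain ⟨_, ⟨B, hB, rfl⟩, hyB, eB⟩ :=
    Y.isBasis_affineOpens.exists_subset_of_mem_open (show y ∈ i ⁻¹ᵁ A from hyA) (i ⁻¹ᵁ A).2
  have eB : B ≤ i ⁻¹ᵁ A := eB
  refine ⟨⟨A, hA⟩, ⟨B, hB⟩, hyB, eB, ?_⟩
  let ι₀ := {V : X'.affineOpens // (V : X'.Opens) ≤ g ⁻¹ᵁ A}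
  obtain ⟨s, hs⟩ := (g.isCompact_preimage hA.isCompact).elim_finite_subcover
    (fun V : ι₀ => (V.1.1 : Set X')) (fun V => V.1.1.2) (fun x hx => by
      obtain ⟨_, ⟨V, hV, rfl⟩, hxV, hVA⟩ :=
        X'.isBasis_affineOpens.exists_subset_of_mem_open (show x ∈ g ⁻¹ᵁ A from hx) (g ⁻¹ᵁ A).2
      exact Set.mem_iUnion.mpr ⟨⟨⟨V, hV⟩, hVA⟩, hxV⟩)
  let J : Fin s.card → ι₀ := fun j => (s.equivFin.symm j).1
  letI := (i.appLE A B eB).hom.toAlgebra
  letI (j : Fin s.card) : Algebra Γ(X, A) Γ(X', (J j).1.1) :=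
    (g.appLE A (J j).1.1 (J j).2).hom.toAlgebra
  haveI (j : Fin s.card) : Module.Flat Γ(X, A) Γ(X', (J j).1.1) :=
    g.flat_appLE hA (J j).1.2 (J j).2
  refine FlatMor67.isLCI_descend (R := fun j => Γ(X', (J j).1.1)) (fun p => ?_) fun j => ?_
  · obtain ⟨x, hx⟩ := g.surjective (hA.fromSpec p)
    have hxA : x ∈ g ⁻¹ᵁ A := by
      change g x ∈ A
      rw [hx, ← SetLike.mem_coe, ← hA.range_fromSpec]
      exact ⟨p, rfl⟩
    obtain ⟨V, hV, hxV⟩ := Set.mem_iUnion₂.mp (hs hxA)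
    refine ⟨s.equivFin ⟨V, hV⟩, ?_⟩
    have hJ : J (s.equivFin ⟨V, hV⟩) = V := by simp [J]
    have hxV' : x ∈ (J (s.equivFin ⟨V, hV⟩)).1.1 := by rw [hJ]; exact hxV
    let j := s.equivFin ⟨V, hV⟩
    refine ⟨(J j).1.2.primeIdealOf ⟨x, hxV'⟩, hA.fromSpec.isOpenEmbedding.injective ?_⟩
    refine (congr(($(hA.SpecMap_appLE_fromSpec g (J j).1.2 (J j).2))
      ((J j).1.2.primeIdealOf ⟨x, hxV'⟩))).trans (Eq.trans ?_ hx)
    exact congrArg g ((J j).1.2.fromSpec_primeIdealOf ⟨x, hxV'⟩)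
  · obtain ⟨hW, ⟨e⟩⟩ := chart hc hA (J j).1.2 hB (J j).2 eB rfl
    letI := (i'.appLE (J j).1.1 (g' ⁻¹ᵁ B ⊓ i' ⁻¹ᵁ (J j).1.1) inf_le_right).hom.toAlgebra
    exact FlatMor67.isLCI_of_algEquiv e.symm (lci_appLE h hW (J j).1.2 inf_le_right)

end Charts

section Immersion

variable {X Y Z : Scheme.{u}}

theorem isClosedImmersion_restrict_of_le (i : Y ⟶ X) {A D : X.Opens} (hD : D ≤ A)
    [IsClosedImmersion (i ∣_ A)] : IsClosedImmersion (i ∣_ D) := by
  have h := (MorphismProperty.arrow_mk_iso_iff (P := @IsClosedImmersion)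
    (morphismRestrictRestrict i A (A.ι ⁻¹ᵁ D))).mp (IsZariskiLocalAtTarget.restrict (P := @IsClosedImmersion) (f := i ∣_ A) inferInstance _)
  rwa [Scheme.Hom.image_preimage_eq_opensRange_inf, Scheme.Opens.opensRange_ι,
    inf_eq_right.mpr hD] at h

theorem app_surjective_of_restrict (i : Y ⟶ X) {A : X.Opens} (hA : IsAffineOpen A)
    [IsClosedImmersion (i ∣_ A)] : Function.Surjective (i.app A) := by
  haveI : IsAffine A.toScheme := hA
  have h1 : Function.Surjective (i ∣_ A).appTop := (i ∣_ A).app_surjective ⊤ (isAffineOpen_top _)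
  rw [morphismRestrict_appTop] at h1
  have h2 : Function.Surjective (i.app (A.ι ''ᵁ ⊤)) := fun c => by
    obtain ⟨y, hy⟩ :=
      h1 ((Y.presheaf.map (eqToHom (image_morphismRestrict_preimage i A ⊤)).op).hom c)
    exact ⟨y, (ConcreteCategory.bijective_of_isIso
      (Y.presheaf.map (eqToHom (image_morphismRestrict_preimage i A ⊤)).op)).1 hy⟩
  rwa [Scheme.Opens.ι_image_top] at h2

theorem isAffineOpen_preimage_of_restrict (i : Y ⟶ X) {A : X.Opens} (hA : IsAffineOpen A)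
    [IsClosedImmersion (i ∣_ A)] : IsAffineOpen (i ⁻¹ᵁ A) := by
  haveI : IsAffine A.toScheme := hA
  exact isAffine_of_isAffineHom (i ∣_ A)

/-- The ideal on a standard open. -/
theorem ker_app_basicOpen' (i : Y ⟶ X) {A : X.Opens} (hA : IsAffineOpen A)
    [IsClosedImmersion (i ∣_ A)] (h : Γ(X, A)) :
    RingHom.ker (i.app (X.basicOpen h)).hom =
      (RingHom.ker (i.app A).hom).map (X.presheaf.map (homOfLE (X.basicOpen_le h)).op).hom := by
  have hB := isAffineOpen_preimage_of_restrict i hA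
  letI : Algebra Γ(X, A) Γ(X, X.basicOpen h) :=
    (X.presheaf.map (homOfLE (X.basicOpen_le h)).op).hom.toAlgebra
  letI : Algebra Γ(Y, i ⁻¹ᵁ A) Γ(Y, i ⁻¹ᵁ X.basicOpen h) :=
    (Y.presheaf.map ((Opens.map i.base).map (homOfLE (X.basicOpen_le h))).op).hom.toAlgebra
  haveI : IsLocalization.Away h Γ(X, X.basicOpen h) := hA.isLocalization_basicOpen h
  haveI : IsLocalization.Away (i.app A h) Γ(Y, i ⁻¹ᵁ X.basicOpen h) :=
    hB.isLocalization_of_eq_basicOpen _ _ (i.preimage_basicOpen h)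
  have hM : (Submonoid.powers h).map (i.app A).hom = Submonoid.powers (i.app A h) :=
    Submonoid.map_powers _ h
  have hy : Submonoid.powers h ≤ (Submonoid.powers (i.app A h)).comap (i.app A).hom :=
    hM ▸ Submonoid.le_comap_map _
  have hmap : (i.app (X.basicOpen h)).hom =
      IsLocalization.map Γ(Y, i ⁻¹ᵁ X.basicOpen h) (i.app A).hom hy := by
    refine IsLocalization.ringHom_ext (Submonoid.powers h) ?_
    ext b
    simp only [RingHom.coe_comp, Function.comp_apply, IsLocalization.map_eq]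
    exact ConcreteCategory.congr_hom (i.naturality (homOfLE (X.basicOpen_le h)).op) b
  rw [hmap, IsLocalization.ker_map _ (i.app A).hom hM]
  rfl

theorem kR_res {A : X.Opens} (hA : IsAffineOpen A) (h : Γ(X, A)) {D : X.Opens}
    (hD : D = X.basicOpen h) {l : List Γ(X, A)} (hl : Koszul19.KR l) :
    Koszul19.KR (l.map (X.presheaf.map (homOfLE (hD.trans_le (X.basicOpen_le h))).op).hom) := by
  subst hD
  letI : Algebra Γ(X, A) Γ(X, X.basicOpen h) :=
    (X.presheaf.map (homOfLE (X.basicOpen_le h)).op).hom.toAlgebra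
  haveI : IsLocalization.Away h Γ(X, X.basicOpen h) := hA.isLocalization_basicOpen h
  haveI : Module.Flat Γ(X, A) Γ(X, X.basicOpen h) := IsLocalization.flat _ (Submonoid.powers h)
  exact hl.map

/-- Koszul-regular immersions of given codimensions compose. -/
theorem codim_comp {n m : ℕ} (i : Y ⟶ X) (j : Z ⟶ Y)
    (hi : RegImm.IsRegularImmersionOfCodim .koszul n i)
    (hj : RegImm.IsRegularImmersionOfCodim .koszul m j) :
    RegImm.IsRegularImmersionOfCodim .koszul (m + n) (j ≫ i) := by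
  obtain ⟨himm, hi⟩ := hi
  obtain ⟨hjmm, hj⟩ := hj
  haveI := himm; haveI := hjmm
  refine ⟨inferInstance, fun z => ?_⟩
  obtain ⟨⟨A, hA⟩, hzA, hclA, f, hfl, hf, hfker⟩ := hi (j z)
  obtain ⟨⟨B, hB⟩, hzB, hclB, g, hgl, hg, hgker⟩ := hj z
  dsimp only at hzA hclA hzB hclB hfker hgker
  have hA' : IsAffineOpen (i ⁻¹ᵁ A) := isAffineOpen_preimage_of_restrict i hA
  obtain ⟨a, b, hab, hza⟩ := exists_basicOpen_le_affine_inter hA' hB (j z) ⟨hzA, hzB⟩
  obtain ⟨h, rfl⟩ := app_surjective_of_restrict i hA a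
  have hCb : i ⁻¹ᵁ X.basicOpen h = Y.basicOpen b := (i.preimage_basicOpen h).trans hab
  haveI : IsClosedImmersion (i ∣_ X.basicOpen h) :=
    isClosedImmersion_restrict_of_le i (X.basicOpen_le h)
  haveI : IsClosedImmersion (j ∣_ Y.basicOpen b) :=
    isClosedImmersion_restrict_of_le j (Y.basicOpen_le b)
  have hzh : i (j z) ∈ X.basicOpen h := by
    change j z ∈ i ⁻¹ᵁ X.basicOpen h
    rw [hCb, ← hab]; exact hza
  let D := X.basicOpen h
  let C := i ⁻¹ᵁ D
  let f' : List Γ(X, D) := f.map (X.presheaf.map (homOfLE (X.basicOpen_le h)).op).hom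
  have hf' : Koszul19.KR f' := kR_res hA h rfl ((Koszul19.kR_iff f).2 hf)
  have hker_f : RingHom.ker (i.app D).hom = Ideal.ofList f' := by
    rw [ker_app_basicOpen' i hA h, hfker, LCI19.map_ofList]
  let ρ := (Y.presheaf.map (homOfLE (hCb.trans_le (Y.basicOpen_le b))).op).hom
  have hg' : Koszul19.KR (g.map ρ) := kR_res hB b hCb ((Koszul19.kR_iff g).2 hg)
  have hker_g : RingHom.ker (j.app C).hom = Ideal.ofList (g.map ρ) := by
    have key : ∀ (C' : Y.Opens) (e : C' = Y.basicOpen b), RingHom.ker (j.app C').hom =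
        (RingHom.ker (j.app B).hom).map
          (Y.presheaf.map (homOfLE (e.trans_le (Y.basicOpen_le b))).op).hom := by
      rintro _ rfl
      exact ker_app_basicOpen' j hB b
    rw [key C hCb, hgker, LCI19.map_ofList]
  have hsurj : Function.Surjective (i.app D) := app_surjective_of_restrict i (hA.basicOpen h)
  choose σ hσ using hsurj
  letI : Algebra Γ(X, D) Γ(Y, C) := (i.app D).hom.toAlgebra
  let g'' : List Γ(X, D) := (g.map ρ).map σ
  have hmap : g''.map (algebraMap Γ(X, D) Γ(Y, C)) = g.map ρ := by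
    simp only [g'', List.map_map]
    refine List.map_congr_left fun x _ => ?_
    exact hσ (ρ x)
  refine ⟨⟨D, hA.basicOpen h⟩, hzh, ?_, g'' ++ f', ?_, ?_, ?_⟩
  · change IsClosedImmersion ((j ≫ i) ∣_ D)
    haveI h1 : IsClosedImmersion (j ∣_ i ⁻¹ᵁ D) :=
      isClosedImmersion_restrict_of_le j (A := B) (hCb.trans_le (Y.basicOpen_le b))
    rw [morphismRestrict_comp]
    exact MorphismProperty.comp_mem _ _ _ h1 (inferInstanceAs (IsClosedImmersion (i ∣_ X.basicOpen h)))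
  · simp [g'', f', hfl, hgl]
  · exact (Koszul19.kR_iff _).1 (FlatMor67.kR_append
      (fun c => ⟨σ c, hσ c⟩) hker_f hf' (hmap.symm ▸ hg'))
  · change RingHom.ker ((j ≫ i).app D).hom = _
    refine Eq.trans (show _ = RingHom.ker ((j.app C).hom.comp (i.app D).hom) from rfl) ?_
    rw [← RingHom.comap_ker, hker_g,
      Ideal.ofList_append, ← hker_f, ← hmap, ← LCI19.map_ofList]
    exact Ideal.comap_map_of_surjective _ (fun c => ⟨σ c, hσ c⟩) _

end Immersion

end Groth.Agent.RegImmB94
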